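import Cfsg.Agent.Lib.CoOne.OctadKernel
import Cfsg.Agent.Lib.Leech.ModThirteen
import Mathlib.LinearAlgebra.Trace

/-!
# The centralizer of the octad involution in the first Conway group
-/

set_option autoImplicit false
set_option maxRecDepth 8000

namespace Cfsg.Lib.CoOne

open Cfsg Cfsg.Lib.Concrete Cfsg.Lib.Leech
open scoped Pointwise symmDiff

/-- The quotient map onto the first Conway group. -/
noncomputable abbrev kap : Co0 →* Spor.Co1 := QuotientGroup.mk' (Subgroup.center Co0)

theorem univ_mem : (Finset.univ : Finset GolayPt) ∈ codeSets := Spor.univ_mem_supports_golayCode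

/-- Negation. -/
noncomputable def negEl : Co0 := monoCo0 1 (one_mem _) Finset.univ univ_mem

theorem negEl_smul (v : leechLattice) : negEl • v = -v := Subtype.ext (funext fun p => by
  rw [negEl, monoCo0_smul, signedPerm_one, if_pos (Finset.mem_univ p)]; rfl)

theorem negEl_center : negEl ∈ Subgroup.center Co0 := Subgroup.mem_center_iff.2 fun k => co0_ext fun i => by
  rw [mul_smul, mul_smul, negEl_smul, negEl_smul, co0_neg]

theorem center_cases {g : Co0} (hg : g ∈ Subgroup.center Co0) :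
    (∀ v : leechLattice, g • v = v) ∨ ∀ v : leechLattice, g • v = -v := by
  obtain ⟨s, hs, h⟩ := mem_center_apply hg 0
  rcases hs with rfl | rfl
  · exact Or.inl fun v => Subtype.ext ((h v).trans (one_smul ℤ _))
  · exact Or.inr fun v => Subtype.ext ((h v).trans (by rw [neg_one_smul]; rfl))

theorem act13_eps_diag (i : GolayPt) :
    act13 (eps : Equiv.Perm leechLattice) (Pi.single i 1) i = if i ∈ oSet then -1 else 1 := by
  have h8 : (Pi.single i (1 : ZMod 13) : GolayPt → ZMod 13) = (5 : ZMod 13) • red13 (e8 i) := by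
    rw [red13_e8, smul_smul, show (5 : ZMod 13) * 8 = 1 by decide, one_smul]
  rw [h8, map_smul, act13_red eps.2, Pi.smul_apply, smul_eq_mul, red13,
    show ((eps : Equiv.Perm leechLattice) (e8 i) : GolayPt → ℤ) i = _ from eps_smul (e8 i) i,
    show ((e8 i : leechLattice) : GolayPt → ℤ) i = 8 from Pi.single_eq_same _ _]
  split <;> rfl

theorem trace_eps : LinearMap.trace (ZMod 13) (GolayPt → ZMod 13) (act13 (eps : Equiv.Perm leechLattice)) = 8 := by
  classical
  rw [LinearMap.trace_eq_matrix_trace (ZMod 13) (Pi.basisFun (ZMod 13) GolayPt), Matrix.trace]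
  simp only [Matrix.diag_apply, LinearMap.toMatrix_apply, Pi.basisFun_repr, Pi.basisFun_apply, act13_eps_diag]
  decide +kernel

theorem mem_cEps_of_commutator {g : Co0} (h : g * eps * g⁻¹ * eps⁻¹ ∈ Subgroup.center Co0) : g ∈ cEps := by
  rcases center_cases h with h' | h'
  · refine mem_cEps.2 (co0_ext fun i => ?_)
    have := h' (eps • (g • e8 i))
    rw [← mul_smul, inv_mul_cancel_right, ← mul_smul, inv_mul_cancel_right] at this
    exact this
  exfalso
  have hkey : ∀ w : leechLattice, g • (eps • (g⁻¹ • w)) = -(eps • w) := fun w => by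
    have := h' (eps • w)
    rwa [← mul_smul, inv_mul_cancel_right, mul_smul, mul_smul] at this
  set E := act13 (eps : Equiv.Perm leechLattice)
  set F := act13 (g : Equiv.Perm leechLattice)
  set F' := act13 ((g⁻¹ : Co0) : Equiv.Perm leechLattice)
  have hcomp : F * E * F' = -E := linearMap_ext_e8 fun j => by
    show F (E (F' (red13 (e8 j)))) = -(E (red13 (e8 j)))
    rw [act13_red (g⁻¹).2, act13_red eps.2, act13_red g.2, act13_red eps.2]
    funext p
    show red13 (g • (eps • (g⁻¹ • e8 j))) p = -red13 (eps • e8 j) p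
    rw [hkey]
    simp [red13]
  have hinv : F' * F = 1 := linearMap_ext_e8 fun j => by
    show F' (F (red13 (e8 j))) = red13 (e8 j)
    rw [act13_red g.2, act13_red (g⁻¹).2]
    show red13 (g⁻¹ • (g • e8 j)) = _
    rw [inv_smul_smul]
  have h1 := congrArg (LinearMap.trace (ZMod 13) (GolayPt → ZMod 13)) hcomp
  rw [LinearMap.trace_mul_comm, ← mul_assoc, hinv, one_mul, map_neg, trace_eps] at h1
  exact absurd h1 (by decide)

/-- The involution of the first Conway group. -/
noncomputable def zEl : Spor.Co1 := kap eps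

/-- The centralizer of the involution. -/
noncomputable abbrev cZ : Subgroup Spor.Co1 := Subgroup.centralizer ({zEl} : Set Spor.Co1)

/-- The restriction of the quotient map. -/
noncomputable def piZ : ↥cEps →* ↥cZ :=
  (kap.comp cEps.subtype).codRestrict cZ fun g => Subgroup.mem_centralizer_singleton_iff.2 (by
    show kap g.1 * kap eps = kap eps * kap g.1
    rw [← map_mul, ← map_mul, mem_cEps.1 g.2])

theorem piZ_val (g : ↥cEps) : (piZ g : Spor.Co1) = kap g.1 := rfl

theorem piZ_surjective : Function.Surjective piZ := by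
  rintro ⟨x, hx⟩
  obtain ⟨g, rfl⟩ := QuotientGroup.mk'_surjective _ x
  have h : kap g * kap eps = kap eps * kap g := Subgroup.mem_centralizer_singleton_iff.1 hx
  have hg : g * eps * g⁻¹ * eps⁻¹ ∈ Subgroup.center Co0 := by
    refine (QuotientGroup.eq_one_iff _).1 ?_
    show kap (g * eps * g⁻¹ * eps⁻¹) = 1
    rw [map_mul, map_mul, map_mul, map_inv, map_inv, h]
    group
  exact ⟨⟨g, mem_cEps_of_commutator hg⟩, rfl⟩

theorem center_le_cEps : Subgroup.center Co0 ≤ cEps := fun g hg =>
  mem_cEps.2 (Subgroup.mem_center_iff.1 hg eps).symm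

theorem mem_piZ_ker {g : ↥cEps} : g ∈ piZ.ker ↔ (g : Co0) ∈ Subgroup.center Co0 := by
  rw [MonoidHom.mem_ker, Subtype.ext_iff, piZ_val]
  exact QuotientGroup.eq_one_iff _

theorem piZ_ker_le : piZ.ker ≤ toO.ker := by
  intro g hg
  refine mem_ker_iff.2 fun v hv => ?_
  rcases center_cases (mem_piZ_ker.1 hg) with h | h
  · rw [h]
  · rw [h, phi_neg hv]

/-- The action of the centralizer in the first Conway group. -/
noncomputable def toOZ : ↥cZ →* ↥O8Two.OGrp := piZ.liftOfSurjective piZ_surjective ⟨toO, piZ_ker_le⟩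

theorem toOZ_piZ (g : ↥cEps) : toOZ (piZ g) = toO g :=
  piZ.liftOfRightInverse_comp_apply _ _ ⟨toO, piZ_ker_le⟩ g

theorem range_toOZ : toOZ.range = O8Two.OmGrp := by
  rw [← range_eq]
  ext A
  constructor
  · rintro ⟨x, rfl⟩
    obtain ⟨g, rfl⟩ := piZ_surjective x
    exact ⟨g, (toOZ_piZ g).symm⟩
  · rintro ⟨g, rfl⟩
    exact ⟨piZ g, toOZ_piZ g⟩

/-- The normal 2-subgroup. -/
noncomputable abbrev qZ : Subgroup ↥cZ := toOZ.ker

/-- The quotient of the centralizer. -/
noncomputable def quotEquiv : ↥cZ ⧸ qZ ≃* ↥O8Two.OmGrp :=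
  (QuotientGroup.quotientKerEquivRange toOZ).trans (MulEquiv.subgroupCongr range_toOZ)

theorem card_qZ : Nat.card qZ = 2 ^ 9 := by
  have h1 := toO.ker.card_mul_index
  rw [Subgroup.index_ker, card_ker, range_eq, card_omega] at h1
  have h2 := piZ.ker.card_mul_index
  rw [Subgroup.index_ker, MonoidHom.range_eq_top.2 piZ_surjective, Subgroup.card_top] at h2
  have h3 := qZ.card_mul_index
  rw [Subgroup.index_ker, range_toOZ, card_omega] at h3
  have h4 : Nat.card piZ.ker = 2 := by
    rw [← card_center_Co0]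
    refine Nat.card_congr ⟨fun g => ⟨g.1.1, mem_piZ_ker.1 g.2⟩,
      fun g => ⟨⟨g.1, center_le_cEps g.2⟩, mem_piZ_ker.2 g.2⟩, fun g => rfl, fun g => rfl⟩
  rw [h4] at h2
  refine Nat.eq_of_mul_eq_mul_right (show 0 < 174182400 by norm_num) ?_
  rw [show (2 : ℕ) ^ 9 = 512 from rfl]
  linarith

theorem mono_mul {σ τ : Equiv.Perm GolayPt} (hσ : σ ∈ M24) (hτ : τ ∈ M24) {c d : Finset GolayPt}
    (hc : c ∈ codeSets) (hd : d ∈ codeSets) (he : c ∆ (σ • d) ∈ codeSets) :
    monoCo0 σ hσ c hc * monoCo0 τ hτ d hd = monoCo0 (σ * τ) (mul_mem hσ hτ) (c ∆ (σ • d)) he := by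
  refine co0_ext fun i => Subtype.ext (funext fun p => ?_)
  rw [mul_smul, monoCo0_smul, monoCo0_smul, monoCo0_smul]
  have hiff : p ∈ σ • d ↔ σ.symm p ∈ d := by rw [← Finset.inv_smul_mem_iff]; rfl
  simp only [signedPerm, Finset.mem_symmDiff, hiff, show (σ * τ).symm p = τ.symm (σ.symm p) from rfl]
  by_cases h1 : p ∈ c <;> by_cases h2 : σ.symm p ∈ d <;> simp [h1, h2]

theorem code_smul {σ : Equiv.Perm GolayPt} (hσ : σ ∈ M24) {d : Finset GolayPt} (hd : d ∈ codeSets) :
    σ • d ∈ codeSets := mem_M24_iff.1 hσ d hd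

/-- The class of a monomial element. -/
noncomputable def kq (σ : Equiv.Perm GolayPt) (hσ : σ ∈ M24) (c : Finset GolayPt) (hc : c ∈ codeSets) : Spor.Co1 :=
  kap (monoCo0 σ hσ c hc)

theorem kq_mul {σ τ : Equiv.Perm GolayPt} (hσ : σ ∈ M24) (hτ : τ ∈ M24) {c d : Finset GolayPt}
    (hc : c ∈ codeSets) (hd : d ∈ codeSets) :
    kq σ hσ c hc * kq τ hτ d hd =
      kq (σ * τ) (mul_mem hσ hτ) (c ∆ (σ • d)) (symmDiff_mem_supports hc (code_smul hσ hd)) := by
  rw [kq, kq, kq, ← map_mul]
  exact congrArg kap (mono_mul hσ hτ hc hd _)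

theorem kq_congr {σ τ : Equiv.Perm GolayPt} (hσ : σ ∈ M24) (hτ : τ ∈ M24) {c d : Finset GolayPt}
    (hc : c ∈ codeSets) (hd : d ∈ codeSets) (h : σ = τ) (h' : c = d) : kq σ hσ c hc = kq τ hτ d hd := by
  subst h h'; rfl

theorem kq_univ_compl {σ : Equiv.Perm GolayPt} (hσ : σ ∈ M24) {c : Finset GolayPt} (hc : c ∈ codeSets) :
    kq σ hσ c hc = kq σ hσ (Finset.univ ∆ c) (symmDiff_mem_supports univ_mem hc) := by
  have h := kq_mul (one_mem _) hσ univ_mem hc
  rw [show kq 1 (one_mem _) Finset.univ univ_mem = 1 from (QuotientGroup.eq_one_iff _).2 negEl_center,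
    one_mul] at h
  exact h.trans (kq_congr _ _ _ _ (one_mul σ) (by rw [one_smul]))

theorem kq_inj {σ τ : Equiv.Perm GolayPt} (hσ : σ ∈ M24) (hτ : τ ∈ M24) {c d : Finset GolayPt}
    (hc : c ∈ codeSets) (hd : d ∈ codeSets) (hcn : (none : GolayPt) ∉ c) (hdn : none ∉ d)
    (h : kq σ hσ c hc = kq τ hτ d hd) : σ = τ ∧ c = d := by
  have h' := QuotientGroup.eq.1 h
  have e : ∀ v : leechLattice, ((monoCo0 σ hσ c hc)⁻¹ * monoCo0 τ hτ d hd) • v = v ∨
      ((monoCo0 σ hσ c hc)⁻¹ * monoCo0 τ hτ d hd) • v = -v := fun v => by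
    rcases center_cases h' with a | a
    · exact Or.inl (a v)
    · exact Or.inr (a v)
  rcases center_cases h' with a | a
  · refine mono_ext fun v => ?_
    have := congrArg (fun w => monoCo0 σ hσ c hc • w) (a v)
    simp only [mul_smul, smul_inv_smul] at this
    rw [← monoCo0_smul σ hσ c hc v, ← monoCo0_smul τ hτ d hd v, this]
  · exfalso
    have hh : ∀ v : leechLattice, signedPerm τ d v = signedPerm σ (Finset.univ ∆ c) v := fun v => by
      have := congrArg (fun w => monoCo0 σ hσ c hc • w) (a v)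
      simp only [mul_smul, smul_inv_smul] at this
      rw [← monoCo0_smul τ hτ d hd v, this, co0_neg, AddSubgroup.coe_neg, monoCo0_smul]
      funext p
      simp only [Pi.neg_apply, signedPerm, Finset.mem_symmDiff, Finset.mem_univ, true_and, not_true, and_false,
        or_false]
      by_cases hp : p ∈ c <;> simp [hp]
    have := (mono_ext hh).2
    rw [this, Finset.mem_symmDiff] at hdn
    exact hdn (Or.inl ⟨Finset.mem_univ _, hcn⟩)

end Cfsg.Lib.CoOne
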