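import Cfsg.Agent.Lib.CoOne.OctadCentral
import Cfsg.Agent.Lib.PGroup.Basic
import Cfsg.Prelude.Def_Transfer

/-!
# The normal subgroup of order 512 is extraspecial
-/

set_option autoImplicit false
set_option maxRecDepth 8000

namespace Cfsg.Lib.CoOne

open Cfsg Cfsg.Lib.Concrete
open scoped Pointwise symmDiff commutatorElement

/-- The packed pointwise stabiliser. -/
def fP (i : Fin 16) : ℕ := fixList.getD i 0

/-- The words missing the octad. -/
def oW (j : Fin 32) : ℕ := outList.getD j 0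

theorem pFun_fix : ∀ i : Fin 16, ∀ x : GolayPt,
    pFun (fP i) (pFun (fP i) x) = x ∧ (x ∈ oSet → pFun (fP i) x = x) := by decide +kernel

/-- The elements of the pointwise stabiliser. -/
def fx (i : Fin 16) : Equiv.Perm GolayPt :=
  ⟨pFun (fP i), pFun (fP i), fun x => (pFun_fix i x).1, fun x => (pFun_fix i x).1⟩

theorem fx_rep : ∀ i : Fin 16, ∀ x : GolayPt, (gidx (fx i x)).val = pget (fP i) (gidx x).val := by decide +kernel

theorem fx_code : ∀ i : Fin 16,
    basisMasks.all (fun b => isCode (pimg (fP i) b) && decide (pimg (fP i) b < 16777216)) = true := by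
  decide +kernel

theorem fx_M24 (i : Fin 16) : fx i ∈ M24 := rep_mem_M24 (fx_rep i) (fx_code i)

theorem fx_inj : ∀ i j : Fin 16, (∀ x : GolayPt, pFun (fP i) x = pFun (fP j) x) → i = j := by decide +kernel

theorem exists_fx {σ : Equiv.Perm GolayPt} (hσ : σ ∈ fixSet oSet) : ∃ i, fx i = σ := by
  let f : Fin 16 → ↥(fixSet oSet) := fun i => ⟨fx i, mem_fixSet.2 ⟨fx_M24 i, fun x hx => (pFun_fix i x).2 hx⟩⟩
  have hcard : Nat.card ↥(fixSet oSet) = 16 := card_fixSet_octad oSet_octad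
  haveI : Finite ↥(fixSet oSet) := Nat.finite_of_card_ne_zero (by rw [hcard]; norm_num)
  have hf : Function.Injective f := fun i j h =>
    fx_inj i j fun x => Equiv.ext_iff.1 (congrArg Subtype.val h) x
  obtain ⟨i, hi⟩ := (hf.bijective_of_nat_card_le (by rw [hcard, Nat.card_fin])).2 ⟨σ, hσ⟩
  exact ⟨i, congrArg Subtype.val hi⟩

theorem oW_check : ∀ j : Fin 32, isCode (oW j) = true ∧ oW j < 16777216 ∧ Nat.land (oW j) m24BaseOctad = 0 := by
  decide +kernel

theorem oW_code (j : Fin 32) : mset (oW j) ∈ codeSets := (mset_mem_supports_iff (oW_check j).2.1).2 (oW_check j).1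

theorem oW_cover : codeList.all (fun m => !(Nat.beq (Nat.land m m24BaseOctad) 0) || outList.contains m) = true := by
  decide +kernel

theorem oW_out (j : Fin 32) {p : GolayPt} (hp : p ∈ oSet) : p ∉ mset (oW j) := by
  intro h
  rw [mem_mset] at h hp
  have h1 : (oW j &&& m24BaseOctad).testBit (gidx p).val = true := by rw [Nat.testBit_and, h, hp]; rfl
  rw [show oW j &&& m24BaseOctad = 0 from (oW_check j).2.2, Nat.zero_testBit] at h1
  exact Bool.false_ne_true h1

theorem exists_oW {c : Finset GolayPt} (hc : c ∈ codeSets) (hd : ∀ p ∈ oSet, p ∉ c) : ∃ j, mset (oW j) = c := by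
  obtain ⟨m, hm, rfl⟩ := mem_supports_iff.1 hc
  have h0 : Nat.land m m24BaseOctad = 0 := Nat.eq_of_testBit_eq fun i => by
    show (m &&& m24BaseOctad).testBit i = _
    rw [Nat.testBit_and, Nat.zero_testBit, Bool.and_eq_false_iff]
    by_cases hi : i < 24
    · by_cases hb : m24BaseOctad.testBit i = true
      · left
        have := hd (gpt ⟨i, hi⟩) (by rw [mem_mset, gidx_gpt]; exact hb)
        rw [mem_mset, gidx_gpt] at this
        exact Bool.eq_false_iff.2 this
      · exact Or.inr (Bool.eq_false_iff.2 hb)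
    · exact Or.inl (Nat.testBit_lt_two_pow (lt_of_lt_of_le (codeList_lt hm) (Nat.pow_le_pow_right (by norm_num) (not_lt.1 hi))))
  have := List.all_eq_true.1 oW_cover m hm
  rw [h0] at this
  have hmem : m ∈ outList := by simpa using this
  obtain ⟨k, hk, e⟩ := List.getElem_of_mem hmem
  have hk32 : k < 32 := lt_of_lt_of_le hk (by decide +kernel)
  exact ⟨⟨k, hk32⟩, by rw [oW, List.getD_eq_getElem?_getD, List.getElem?_eq_getElem hk]; simp [e]⟩

/-- An element of the normal subgroup, as a class. -/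
noncomputable def kE (i : Fin 16) (j : Fin 32) : Spor.Co1 := kq (fx i) (fx_M24 i) (mset (oW j)) (oW_code j)

theorem kE_val {x : ↥cZ} (hx : x ∈ qZ) : ∃ i j, (x : Spor.Co1) = kE i j := by
  obtain ⟨g, rfl⟩ := piZ_surjective x
  rw [MonoidHom.mem_ker, toOZ_piZ, ← MonoidHom.mem_ker] at hx
  obtain ⟨σ, hσ, c, hc, hflat, h⟩ := ker_shape hx
  have hM := (mem_fixSet.1 hσ).1
  have he : (piZ g : Spor.Co1) = kq σ hM c hc := by
    rw [piZ_val, kq]
    exact congrArg kap (co0_ext fun i => Subtype.ext (h (e8 i)))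
  obtain ⟨i, hi⟩ := exists_fx hσ
  by_cases hn : (none : GolayPt) ∈ c
  · obtain ⟨j, hj⟩ := exists_oW (symmDiff_mem_supports univ_mem hc) fun p hp hpm => by
      rw [Finset.mem_symmDiff] at hpm
      rcases hpm with ⟨-, a⟩ | ⟨-, a⟩
      · exact a ((hflat p hp).2 hn)
      · exact a (Finset.mem_univ p)
    exact ⟨i, j, he.trans ((kq_univ_compl hM hc).trans (kq_congr _ _ _ _ hi.symm hj.symm))⟩
  · obtain ⟨j, hj⟩ := exists_oW hc fun p hp hpc => hn ((hflat p hp).1 hpc)
    exact ⟨i, j, he.trans (kq_congr _ _ _ _ hi.symm hj.symm)⟩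

theorem outMask_set : mset outMask = Finset.univ ∆ oSet ∧ isCode outMask = true ∧
    (none : GolayPt) ∉ mset outMask := by decide +kernel

theorem outMask_code : mset outMask ∈ codeSets := (mset_mem_supports_iff (by decide +kernel)).2 outMask_set.2.1

theorem zEl_eq : zEl = kq 1 (one_mem _) (mset outMask) outMask_code :=
  (kq_univ_compl (one_mem _) oSet_mem).trans (kq_congr _ _ _ _ rfl outMask_set.1.symm)

theorem kq_one_empty : kq 1 (one_mem _) ∅ empty_mem_codeSets = 1 := by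
  rw [kq, show monoCo0 1 (one_mem _) ∅ empty_mem_codeSets = 1 from co0_ext fun i => Subtype.ext (funext fun p => by
    rw [monoCo0_smul, one_smul, signedPerm_one, if_neg (Finset.notMem_empty p)]), map_one]

theorem fx_sq (i : Fin 16) : fx i * fx i = 1 := Equiv.ext fun x => (pFun_fix i x).1

theorem sq_table : ∀ i : Fin 16, ∀ j : Fin 32,
    oW j ^^^ pimg (fP i) (oW j) = 0 ∨ oW j ^^^ pimg (fP i) (oW j) = outMask := by decide +kernel

theorem kE_sq (i : Fin 16) (j : Fin 32) : kE i j * kE i j = 1 ∨ kE i j * kE i j = zEl := by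
  rw [kE, kq_mul]
  have hs : mset (oW j) ∆ (fx i • mset (oW j)) = mset (oW j ^^^ pimg (fP i) (oW j)) := by
    rw [mset_xor, Rep.smul_mset (fx_rep i)]
  rcases sq_table i j with e | e
  · left
    rw [kq_congr (d := ∅) _ (one_mem _) _ empty_mem_codeSets (fx_sq i) (by rw [hs, e, mset_zero]), kq_one_empty]
  · right
    rw [zEl_eq]
    exact kq_congr _ _ _ _ (fx_sq i) (by rw [hs, e])

theorem out_moved : ∀ i : Fin 16, (∀ x : GolayPt, pFun (fP i) x = x) ∨
    ∃ j : Fin 32, pimg (fP i) (oW j) ≠ oW j ∧ pimg (fP i) (oW j) < 16777216 := by decide +kernel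

theorem fix_moved : ∀ j : Fin 32, oW j = 0 ∨ oW j = outMask ∨
    ∃ i : Fin 16, pimg (fP i) (oW j) ≠ oW j ∧ pimg (fP i) (oW j) < 16777216 := by decide +kernel

theorem none_smul_out (i : Fin 16) {c : Finset GolayPt} (hc : (none : GolayPt) ∉ c) : (none : GolayPt) ∉ fx i • c := by
  intro h
  obtain ⟨q, hq, e⟩ := Finset.mem_smul_finset.1 h
  have e' : pFun (fP i) q = none := e
  have := (pFun_fix i q).1
  rw [e', (pFun_fix i none).2 none_mem] at this
  exact hc (this ▸ hq)

theorem none_symmDiff {c d : Finset GolayPt} (hc : (none : GolayPt) ∉ c) (hd : none ∉ d) : none ∉ c ∆ d := by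
  rw [Finset.mem_symmDiff]
  rintro (⟨a, -⟩ | ⟨a, -⟩)
  exacts [hc a, hd a]

theorem kE_mem (i : Fin 16) (j : Fin 32) : ∃ h : kE i j ∈ cZ, (⟨kE i j, h⟩ : ↥cZ) ∈ qZ := by
  have hfix : fx i ∈ fixSet oSet := mem_fixSet.2 ⟨fx_M24 i, fun x hx => (pFun_fix i x).2 hx⟩
  have hflat : mset (oW j) ∈ flatCodes :=
    ⟨oW_code j, fun p hp => iff_of_false (oW_out j hp) (oW_out j none_mem)⟩
  obtain ⟨h, hk⟩ := mono_ker hfix hflat
  refine ⟨(piZ ⟨_, h⟩).2, ?_⟩
  show piZ ⟨_, h⟩ ∈ qZ
  rw [MonoidHom.mem_ker, toOZ_piZ]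
  exact hk

theorem kE_center {i : Fin 16} {j : Fin 32} (h : ∀ i' j', kE i j * kE i' j' = kE i' j' * kE i j) :
    kE i j = 1 ∨ kE i j = zEl := by
  have hn : ∀ j, (none : GolayPt) ∉ mset (oW j) := fun j => oW_out j none_mem
  obtain ⟨i₀, hi₀⟩ : ∃ i₀, fx i₀ = 1 := exists_fx (one_mem _)
  obtain ⟨j₀, hj₀⟩ : ∃ j₀, mset (oW j₀) = ∅ := exists_oW empty_mem_codeSets fun p _ => Finset.notMem_empty p
  have hid : ∀ x, pFun (fP i) x = x := (out_moved i).resolve_right fun ⟨j', hne, hlt⟩ => by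
    have h' := h i₀ j'
    simp only [kE, kq_mul] at h'
    obtain ⟨-, e⟩ := kq_inj _ _ _ _ (none_symmDiff (hn j) (none_smul_out i (hn j')))
      (none_symmDiff (hn j') (none_smul_out i₀ (hn j))) h'
    rw [hi₀, one_smul, symmDiff_comm (mset (oW j')), symmDiff_right_inj, Rep.smul_mset (fx_rep i)] at e
    exact hne (mset_inj hlt (oW_check j').2.1 e)
  have hσ : fx i = 1 := Equiv.ext hid
  have hj : oW j = 0 ∨ oW j = outMask := by
    rcases fix_moved j with a | a | ⟨i', hne, hlt⟩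
    · exact Or.inl a
    · exact Or.inr a
    exfalso
    have h' := h i' j₀
    simp only [kE, kq_mul] at h'
    obtain ⟨-, e⟩ := kq_inj _ _ _ _ (none_symmDiff (hn j) (none_smul_out i (hn j₀)))
      (none_symmDiff (hn j₀) (none_smul_out i' (hn j))) h'
    rw [hσ, one_smul, hj₀, symmDiff_comm (∅ : Finset GolayPt), ← Finset.bot_eq_empty, symmDiff_bot, symmDiff_bot,
      Rep.smul_mset (fx_rep i')] at e
    exact hne (mset_inj hlt (oW_check j).2.1 e.symm)
  rcases hj with e | e
  · left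
    rw [kE, kq_congr (d := ∅) _ (one_mem _) _ empty_mem_codeSets hσ (by rw [e, mset_zero]), kq_one_empty]
  · right
    rw [zEl_eq]
    exact kq_congr _ _ _ _ hσ (by rw [e])

/-- The involution in its centralizer. -/
noncomputable def zC : ↥cZ := ⟨zEl, Subgroup.mem_centralizer_singleton_iff.2 rfl⟩

theorem zEl_sq : zEl * zEl = 1 := by
  rw [zEl_eq, kq_mul, kq_congr (d := ∅) _ (one_mem _) _ empty_mem_codeSets (one_mul 1)
    (by rw [one_smul, symmDiff_self, Finset.bot_eq_empty]), kq_one_empty]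

theorem zEl_ne : zEl ≠ 1 := by
  rw [zEl_eq, ← kq_one_empty]
  intro h
  have e := (kq_inj _ _ _ _ outMask_set.2.2 (Finset.notMem_empty _) h).2
  revert e
  decide +kernel

theorem zC_mem : zC ∈ qZ := by
  obtain ⟨i, hi⟩ : ∃ i, fx i = 1 := exists_fx (one_mem _)
  obtain ⟨j, hj⟩ := exists_oW outMask_code (by decide +kernel)
  obtain ⟨h, hq⟩ := kE_mem i j
  rwa [show zC = (⟨kE i j, h⟩ : ↥cZ) from Subtype.ext (zEl_eq.trans (kq_congr _ _ _ _ hi.symm hj.symm))]

theorem center_qZ {x : ↥qZ} : x ∈ Subgroup.center ↥qZ ↔ x = 1 ∨ x = ⟨zC, zC_mem⟩ := by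
  constructor
  · intro hx
    obtain ⟨i, j, e⟩ := kE_val x.2
    rcases kE_center (i := i) (j := j) fun i' j' => by
      obtain ⟨h', hq'⟩ := kE_mem i' j'
      have := congrArg (fun y : ↥qZ => ((y : ↥cZ) : Spor.Co1)) (Subgroup.mem_center_iff.1 hx ⟨_, hq'⟩)
      simp only [Subgroup.coe_mul, e] at this
      exact this.symm with a | a
    · exact Or.inl (Subtype.ext (Subtype.ext (e.trans a)))
    · exact Or.inr (Subtype.ext (Subtype.ext (e.trans a)))
  · rintro (rfl | rfl)
    · exact one_mem _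
    · refine Subgroup.mem_center_iff.2 fun y => Subtype.ext (Subtype.ext ?_)
      exact Subgroup.mem_centralizer_singleton_iff.1 y.1.2

theorem card_center_qZ : Nat.card (Subgroup.center ↥qZ) = 2 := by
  refine Nat.card_eq_two_iff.2 ⟨1, ⟨⟨zC, zC_mem⟩, center_qZ.2 (Or.inr rfl)⟩, fun h => zEl_ne ?_,
    Set.eq_univ_iff_forall.2 fun u => ?_⟩
  · exact (congrArg (fun u : Subgroup.center ↥qZ => (((u : ↥qZ) : ↥cZ) : Spor.Co1)) h).symm
  · rcases center_qZ.1 u.2 with h | h
    · exact Or.inl (Subtype.ext h)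
    · exact Or.inr (Subtype.ext h)

theorem sq_center (x : ↥qZ) : x * x ∈ Subgroup.center ↥qZ := by
  obtain ⟨i, j, e⟩ := kE_val x.2
  refine center_qZ.2 ?_
  rcases kE_sq i j with h | h
  · exact Or.inl (Subtype.ext (Subtype.ext (by show (x.1 : Spor.Co1) * x.1 = 1; rw [e, h])))
  · exact Or.inr (Subtype.ext (Subtype.ext (by show (x.1 : Spor.Co1) * x.1 = zEl; rw [e, h])))

theorem isExtraspecial_qZ : Cfsg.IsExtraspecial 2 ↥qZ := by
  haveI : Fact (Nat.Prime 2) := ⟨Nat.prime_two⟩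
  haveI : Finite ↥qZ := Nat.finite_of_card_ne_zero (by rw [card_qZ]; norm_num)
  have hp : IsPGroup 2 ↥qZ := IsPGroup.of_card card_qZ
  have hcomm : commutator ↥qZ ≤ Subgroup.center ↥qZ := by
    rw [commutator_def, Subgroup.commutator_le]
    intro a _ b _
    have e : ⁅a, b⁆ = (a * b) * (a * b) * (b * b)⁻¹ * (b * (a * a)⁻¹ * b⁻¹) := by
      rw [commutatorElement_def]; group
    rw [e]
    exact mul_mem (mul_mem (sq_center _) (inv_mem (sq_center b)))
      ((inferInstance : (Subgroup.center ↥qZ).Normal).conj_mem _ (inv_mem (sq_center a)) b)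
  have hne : commutator ↥qZ ≠ ⊥ := fun h => by
    rw [commutator_eq_bot_iff_center_eq_top] at h
    have h1 : Nat.card (Subgroup.center ↥qZ) = 2 ^ 9 := by rw [h, Subgroup.card_top, card_qZ]
    rw [card_center_qZ] at h1
    exact absurd h1 (by norm_num)
  have heq : commutator ↥qZ = Subgroup.center ↥qZ := by
    refine Subgroup.eq_of_le_of_card_ge hcomm ?_
    rw [card_center_qZ]
    exact (Subgroup.one_lt_card_iff_ne_bot _).2 hne
  refine ⟨⟨hp, le_antisymm ?_ (heq ▸ Lib.PGroup.commutator_le_frattini hp), heq⟩, card_center_qZ⟩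
  exact Lib.PGroup.frattini_le_of_commutator_le_of_pow_mem (p := 2) hcomm fun u => by
    rw [pow_two]; exact sq_center u

end Cfsg.Lib.CoOne
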