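import Cfsg.Agent.Lib.CoOne.OctadExtra
import Cfsg.Agent.Lib.Core.Layer
import Cfsg.Agent.Lib.Chev.D4Equiv

/-!
# The generalized Fitting subgroup of the centralizer
-/

set_option autoImplicit false
set_option maxRecDepth 8000

namespace Cfsg.Lib.CoOne

open Cfsg Cfsg.Lib.Concrete
open scoped Pointwise symmDiff commutatorElement

theorem simple_of_quot {G : Type*} [Group G] (hc : Subgroup.center G = ⊥) [IsSimpleGroup (G ⧸ Subgroup.center G)] :
    IsSimpleGroup G :=
  MulEquiv.isSimpleGroup (MulEquiv.ofBijective (QuotientGroup.mk' (Subgroup.center G))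
    ⟨(MonoidHom.ker_eq_bot_iff _).1 (by rw [QuotientGroup.ker_mk', hc]), QuotientGroup.mk'_surjective _⟩)

theorem simple_pomega {M : Type} [Group M] (K : Subgroup M) (hK : IsSimpleGroup ↥K)
    (e : ↥K ≃* POmega (ZMod 2) (quadFormPlus 4 (ZMod 2))) : IsSimpleGroup ↥O8Two.OmGrp := by
  haveI := hK
  have h := MulEquiv.isSimpleGroup e.symm
  exact @simple_of_quot _ _ O8Two.center_omega h

theorem isSimple_omega : IsSimpleGroup ↥O8Two.OmGrp := by
  obtain ⟨e⟩ := Cfsg.Lib.Chev.D4Orth.nonempty_equiv (F := ZMod 2)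
  exact simple_pomega _ (Cfsg.Agent.S1054.result (F := ZMod 2) Cfsg.Lie.chevD4 (by simp)).1 e

theorem moved_check : (none : GolayPt) ∉ mset movedMask ∧ mset movedMask ≠ mset (pimg stabA movedMask) ∧
    mset movedMask ∆ mset outMask ≠ mset (pimg stabA movedMask) ∧ (none : GolayPt) ∉ mset (pimg stabA movedMask) := by
  decide +kernel

theorem movedMask_code : mset movedMask ∈ codeSets :=
  (mset_mem_supports_iff (by decide +kernel)).2 (by decide +kernel)

theorem sigA_rep : Cfsg.Lib.Concrete.Rep sigA stabA := by unfold Cfsg.Lib.Concrete.Rep; decide +kernel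

set_option maxHeartbeats 2000000 in
/-- Elements centralizing the normal subgroup lie in it. -/
theorem centralizer_qZ : Subgroup.centralizer (qZ : Set ↥cZ) ≤ qZ := by
  set X := Subgroup.centralizer (qZ : Set ↥cZ) with hX
  haveI := isSimple_omega
  haveI : X.Normal := Subgroup.normal_centralizer
  haveI hM : (X.map toOZ.rangeRestrict).Normal :=
    Subgroup.Normal.map inferInstance _ toOZ.rangeRestrict_surjective
  haveI : IsSimpleGroup ↥toOZ.range := (MulEquiv.subgroupCongr range_toOZ).isSimpleGroup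
  rcases hM.eq_bot_or_eq_top with hb | ht
  · intro x hx
    have : toOZ.rangeRestrict x ∈ X.map toOZ.rangeRestrict := ⟨x, hx, rfl⟩
    rw [hb, Subgroup.mem_bot] at this
    exact congrArg Subtype.val this
  exfalso
  obtain ⟨a, ha⟩ : ∃ a : ↥cEps, (a : Co0) = monoCo0 sigA sigA_mem ∅ empty_mem_codeSets := ⟨⟨_, gEl_mem 0⟩, rfl⟩
  have hd : mset movedMask ∈ flatCodes ∧ ∀ p ∈ oSet, p ∉ mset movedMask := by
    have h : ∀ p ∈ oSet, p ∉ mset movedMask := by decide +kernel
    exact ⟨⟨movedMask_code, fun p hp => iff_of_false (h p hp) (h none none_mem)⟩, h⟩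
  obtain ⟨i₀, hi₀⟩ : ∃ i, fx i = 1 := exists_fx (one_mem _)
  obtain ⟨j₀, hj₀⟩ := exists_oW movedMask_code hd.2
  obtain ⟨hq, hqQ⟩ := kE_mem i₀ j₀
  obtain ⟨x, hx, hxe⟩ : toOZ.rangeRestrict (piZ a) ∈ X.map toOZ.rangeRestrict := ht ▸ Subgroup.mem_top _
  have hq0 : piZ a * x⁻¹ ∈ qZ := by
    rw [MonoidHom.mem_ker, map_mul, map_inv, mul_inv_eq_one]
    exact (congrArg Subtype.val hxe).symm
  obtain ⟨u, hu, hua⟩ : ∃ u ∈ qZ, piZ a = u * x := ⟨_, hq0, (inv_mul_cancel_right _ _).symm⟩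
  have hxq : x * (⟨_, hq⟩ : ↥cZ) = ⟨_, hq⟩ * x := (Subgroup.mem_centralizer_iff.1 hx _ hqQ).symm
  have hkey : kq sigA sigA_mem ∅ empty_mem_codeSets * kE i₀ j₀ =
      zEl * kE i₀ j₀ * kq sigA sigA_mem ∅ empty_mem_codeSets ∨
    kq sigA sigA_mem ∅ empty_mem_codeSets * kE i₀ j₀ =
      kE i₀ j₀ * kq sigA sigA_mem ∅ empty_mem_codeSets := by
    have ea : (piZ a : Spor.Co1) = kq sigA sigA_mem ∅ empty_mem_codeSets := by rw [piZ_val, ha]; rfl
    have hmem : ⁅(⟨u, hu⟩ : ↥qZ), ⟨_, hqQ⟩⁆ ∈ Subgroup.center ↥qZ :=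
      isExtraspecial_qZ.1.2.2 ▸ Subgroup.commutator_mem_commutator (Subgroup.mem_top _) (Subgroup.mem_top _)
    have hc := center_qZ.1 hmem
    rcases hc with h | h
    · refine Or.inr ?_
      have hcomm : u * (⟨_, hq⟩ : ↥cZ) = ⟨_, hq⟩ * u :=
        congrArg Subtype.val (commutatorElement_eq_one_iff_mul_comm.1 h)
      have := congrArg (fun y : ↥cZ => (y : Spor.Co1))
        (show piZ a * ⟨_, hq⟩ = ⟨_, hq⟩ * piZ a by rw [hua, mul_assoc, hxq, ← mul_assoc, hcomm, mul_assoc])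
      simpa [ea] using this
    · refine Or.inl ?_
      have hcomm : u * (⟨_, hq⟩ : ↥cZ) = zC * (⟨_, hq⟩ * u) := by
        have h' := congrArg Subtype.val h
        simp only [commutatorElement_def, Subgroup.coe_mul, Subgroup.coe_inv] at h'
        rw [← h']
        group
      have := congrArg (fun y : ↥cZ => (y : Spor.Co1))
        (show piZ a * ⟨_, hq⟩ = zC * ⟨_, hq⟩ * piZ a by
          rw [hua, mul_assoc, hxq, ← mul_assoc, hcomm]; group)
      simpa [ea, zC] using this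
  have hL : kq sigA sigA_mem ∅ empty_mem_codeSets * kE i₀ j₀ =
      kq sigA sigA_mem (mset (pimg stabA movedMask)) (sigA_rep.smul_mset _ ▸ code_smul sigA_mem movedMask_code) := by
    rw [kE, kq_mul]
    refine kq_congr _ _ _ _ (by rw [hi₀, mul_one]) ?_
    rw [hj₀, sigA_rep.smul_mset, ← Finset.bot_eq_empty, bot_symmDiff]
  have hR : kE i₀ j₀ * kq sigA sigA_mem ∅ empty_mem_codeSets = kq sigA sigA_mem (mset movedMask) movedMask_code := by
    rw [kE, kq_mul]
    refine kq_congr _ _ _ _ (by rw [hi₀, one_mul]) ?_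
    rw [hj₀, hi₀, one_smul, ← Finset.bot_eq_empty, symmDiff_bot]
  rcases hkey with h | h
  · rw [hL, mul_assoc, hR, zEl_eq, kq_mul] at h
    obtain ⟨-, e⟩ := kq_inj _ _ _ _ moved_check.2.2.2
      (none_symmDiff outMask_set.2.2 (by rw [one_smul]; exact moved_check.1)) h
    rw [one_smul, symmDiff_comm] at e
    exact moved_check.2.2.1 e.symm
  · rw [hL, hR] at h
    exact moved_check.2.1 (kq_inj _ _ _ _ moved_check.2.2.2 moved_check.1 h).2.symm

end Cfsg.Lib.CoOne
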